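import Mathlib
/-!
A character of a maximal subgroup of a `p`-group with nontrivial norm gives a quotient `C_p ≀ C_p`,
seen as a Sylow `p`-subgroup of the symmetric group of degree `p ^ 2`.
-/

set_option autoImplicit false

namespace Cfsg.Agent.Lib.YoshidaTransfer

open Subgroup
open scoped Nat

variable {p : ℕ} [hp : Fact p.Prime]

theorem choose_sub_one_cast {k : ℕ} (hk : k ≤ p - 1) :
    (((p - 1).choose k : ℕ) : ZMod p) = (-1) ^ k := by
  induction k with
  | zero => simp
  | succ k ih =>
    have h0 : ((p.choose (k + 1) : ℕ) : ZMod p) = 0 := by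
      rw [ZMod.natCast_eq_zero_iff]; exact hp.out.dvd_choose_self k.succ_ne_zero (by omega)
    have h1 : p.choose (k + 1) = (p - 1).choose k + (p - 1).choose (k + 1) := by
      conv_lhs => rw [show p = p - 1 + 1 from (Nat.succ_pred_eq_of_pos hp.out.pos).symm]
      exact Nat.choose_succ_succ _ _
    rw [h1, Nat.cast_add, ih (by omega)] at h0
    rw [pow_succ, mul_neg_one]
    exact eq_neg_of_add_eq_zero_right h0

/-- The `(p - 1)`-st difference of a function on `ZMod p` is its sum. -/
theorem fwdDiff_pred (w : ZMod p → ZMod p) (x : ZMod p) :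
    (fwdDiff 1)^[p - 1] w x = ∑ y, w y := by
  rw [fwdDiff_iter_eq_sum_shift, Nat.sub_add_cancel hp.out.one_le]
  have hcoef : ∀ k ∈ Finset.range p,
      ((-1 : ℤ) ^ (p - 1 - k) * ((p - 1).choose k : ℤ)) • w (x + k • 1) = w (x + (k : ZMod p)) := by
    intro k hk
    rw [Finset.mem_range] at hk
    rw [zsmul_eq_mul, nsmul_one]
    push_cast
    rw [choose_sub_one_cast (by omega), ← pow_add, Nat.sub_add_cancel (by omega)]
    rcases hp.out.eq_two_or_odd' with rfl | hodd
    · rw [ZMod.neg_eq_self_mod_two, one_pow, one_mul]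
    · rw [Even.neg_one_pow (Nat.Odd.sub_odd hodd odd_one), one_mul]
  rw [Finset.sum_congr rfl hcoef]
  refine Finset.sum_nbij (fun k => x + (k : ZMod p)) (fun _ _ => Finset.mem_univ _) ?_ ?_
    (fun _ _ => rfl)
  · intro a ha b hb h
    simp only [Finset.coe_range, Set.mem_Iio] at ha hb
    have := congrArg ZMod.val (add_left_cancel h)
    rwa [ZMod.val_natCast_of_lt ha, ZMod.val_natCast_of_lt hb] at this
  · intro y _
    exact ⟨(y - x).val, by simp [ZMod.val_lt], by simp⟩

/-- A translation invariant subgroup containing a function with nonzero sum is everything. -/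
theorem eq_top_of_sum_ne_zero (I : AddSubgroup (ZMod p → ZMod p))
    (hI : ∀ u ∈ I, (fun x => u (x + 1)) ∈ I) {w : ZMod p → ZMod p} (hw : w ∈ I)
    (hS : ∑ y, w y ≠ 0) : I = ⊤ := by
  let Δ : (ZMod p → ZMod p) →+ (ZMod p → ZMod p) :=
    { toFun := fun u x => u (x + 1) - u x
      map_zero' := by funext x; simp
      map_add' := fun u v => by funext x; simp only [Pi.add_apply]; ring }
  have hΔ : (Δ : (ZMod p → ZMod p) → ZMod p → ZMod p) = fwdDiff 1 := rfl
  have hmem : ∀ n : ℕ, (⇑Δ)^[n] w ∈ I := by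
    intro n
    induction n with
    | zero => exact hw
    | succ n ih => rw [Function.iterate_succ_apply']; exact I.sub_mem (hI _ ih) ih
  have hconst : ∀ u : ZMod p → ZMod p, Δ u = 0 → ∀ x, u x = u 0 := by
    intro u hu x
    have : ∀ n : ℕ, u (n : ZMod p) = u 0 := by
      intro n
      induction n with
      | zero => simp
      | succ n ih =>
        have := congrFun hu (n : ZMod p)
        rw [Nat.cast_succ, ← ih]
        exact sub_eq_zero.1 this
    simpa using this x.val
  have key : ∀ k : ℕ, k ≤ p → ∀ u, (⇑Δ)^[k] u = 0 → u ∈ I := by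
    intro k
    induction k with
    | zero => intro _ u hu; simp only [Function.iterate_zero, id_eq] at hu; rw [hu]; exact I.zero_mem
    | succ k ih =>
      intro hk u hu
      rw [Function.iterate_succ_apply'] at hu
      set c := (⇑Δ)^[k] u 0 with hc
      set e := (⇑Δ)^[p - 1 - k] w with he
      have hek : (⇑Δ)^[k] e = fun _ => ∑ y, w y := by
        funext x
        rw [he, ← Function.iterate_add_apply, show k + (p - 1 - k) = p - 1 by omega, hΔ, fwdDiff_pred]
      set n := (c / ∑ y, w y).val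
      have hsub : (⇑Δ)^[k] (u - n • e) = 0 := by
        rw [iterate_map_sub, iterate_map_nsmul, hek]
        funext x
        show (⇑Δ)^[k] u x - n • (∑ y, w y) = 0
        simp only [nsmul_eq_mul, n, ZMod.natCast_zmod_val]
        rw [hconst _ hu x, ← hc, div_mul_cancel₀ _ hS, sub_self]
      have := I.add_mem (ih (by omega) _ hsub) (I.nsmul_mem (hmem (p - 1 - k)) n)
      rwa [sub_add_cancel] at this
  have hp1 := hp.out.pos
  refine eq_top_iff.2 fun u _ => key ((p - 1) + 1) (by omega) u ?_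
  rw [Function.iterate_succ_apply']
  funext x
  show (⇑Δ)^[p - 1] u (x + 1) - (⇑Δ)^[p - 1] u x = 0
  rw [hΔ, fwdDiff_pred, fwdDiff_pred, sub_self]

theorem factorization_factorial_sq : ((p ^ 2)!).factorization p = p + 1 := by
  have h1 := Nat.factorization_factorial hp.out (n := p ^ 2) (b := 3) (by
    rw [Nat.log_pow hp.out.one_lt]; norm_num)
  rw [h1, show Finset.Ico 1 3 = {1, 2} from rfl, Finset.sum_insert (by simp), Finset.sum_singleton]
  rw [pow_one, Nat.div_self (pow_pos hp.out.pos 2), pow_two, Nat.mul_div_cancel _ hp.out.pos]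

theorem exists_linear_functional {K B : Type*} [Field K] [AddCommGroup B] [Module K B] {b : B}
    (hb : b ≠ 0) : ∃ l : B →+ K, l b ≠ 0 := by
  let bas := Module.Basis.ofVectorSpace K B
  obtain ⟨i, hi⟩ : ∃ i, bas.repr b i ≠ 0 := by
    by_contra hcon
    push_neg at hcon
    exact hb (bas.repr.injective (by rw [map_zero]; exact Finsupp.ext hcon))
  exact ⟨(bas.coord i).toAddMonoidHom, hi⟩

theorem exists_functional {B : Type*} [AddCommGroup B] (hB : ∀ b : B, p • b = 0) {b : B}
    (hb : b ≠ 0) : ∃ l : B →+ ZMod p, l b ≠ 0 :=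
  letI : Module (ZMod p) B := AddCommGroup.zmodModule hB
  exists_linear_functional hb

/-- **The wreathed quotient.** -/
theorem exists_surjective_of_norm_ne_one {R : Type*} [Group R] [Finite R] (hR : IsPGroup p R)
    {M : Subgroup R} [M.Normal] (hM : M.index = p) {A : Type*} [CommGroup A]
    (hA : ∀ a : A, a ^ p = 1) (χ : M →* A) (y : M) {z : R} (_hz : z ∉ M)
    (hne : ∏ j : Fin p, χ ⟨(z ^ (j : ℕ))⁻¹ * y * z ^ (j : ℕ),
      (inferInstance : M.Normal).conj_mem' y y.2 _⟩ ≠ 1) :
    ∃ (P : Sylow p (Equiv.Perm (Fin (p ^ 2)))) (f : R →* (P : Subgroup (Equiv.Perm (Fin (p ^ 2))))),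
      Function.Surjective f := by
  classical
  -- a functional
  set aP := Additive.ofMul (∏ j : Fin p, χ ⟨(z ^ (j : ℕ))⁻¹ * y * z ^ (j : ℕ),
      (inferInstance : M.Normal).conj_mem' y y.2 _⟩) with haP
  obtain ⟨l, hl⟩ : ∃ l : Additive A →+ ZMod p, l aP ≠ 0 := by
    refine exists_functional (B := Additive A) (fun a => ?_) fun h => hne (congrArg Additive.toMul h)
    apply Additive.toMul.injective
    rw [toMul_nsmul, toMul_zero]
    exact hA _
  let ψ : M → ZMod p := fun m => l (Additive.ofMul (χ m))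
  have ψmul : ∀ a b, ψ (a * b) = ψ a + ψ b := fun a b => by simp [ψ]
  let cj : ℕ → M → M := fun n m => ⟨(z ^ n)⁻¹ * m * z ^ n, (inferInstance : M.Normal).conj_mem' m m.2 _⟩
  have hzp : z ^ p ∈ M := by
    rw [← QuotientGroup.eq_one_iff, QuotientGroup.mk_pow]
    conv_lhs => rw [← hM, Subgroup.index_eq_card]
    exact pow_card_eq_one'
  have hper : ∀ n m, ψ (cj (n + p) m) = ψ (cj n m) := by
    intro n m
    have e : cj (n + p) m = (⟨z ^ p, hzp⟩ : M)⁻¹ * cj n m * ⟨z ^ p, hzp⟩ := Subtype.ext (by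
      simp only [cj, Subgroup.coe_mul, Subgroup.coe_inv, pow_add]
      group)
    rw [e]
    simp only [ψ, map_mul, map_inv, mul_comm (χ ⟨z ^ p, hzp⟩)⁻¹, inv_mul_cancel_right]
  have hmod : ∀ n m, ψ (cj n m) = ψ (cj (n % p) m) := by
    intro n m
    conv_lhs => rw [← Nat.mod_add_div n p]
    induction n / p with
    | zero => rw [mul_zero, add_zero]
    | succ k ih => rw [Nat.mul_succ, ← add_assoc, hper, ih]
  let Ψ : Additive M →+ (ZMod p → ZMod p) :=
    { toFun := fun m j => ψ (cj j.val m.toMul)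
      map_zero' := by
        funext j
        simp [ψ, cj, show (⟨1, M.one_mem⟩ : M) = 1 from rfl]
      map_add' := fun a b => by
        funext j
        simp only [Pi.add_apply, toMul_add, ← ψmul]
        exact congrArg ψ (Subtype.ext (by simp only [cj, Subgroup.coe_mul]; group)) }
  have htop : Ψ.range = ⊤ := by
    refine eq_top_of_sum_ne_zero _ ?_ (w := Ψ (Additive.ofMul y)) ⟨_, rfl⟩ ?_
    · rintro _ ⟨m, rfl⟩
      refine ⟨Additive.ofMul (cj 1 m.toMul), funext fun j => ?_⟩
      show ψ (cj j.val (cj 1 m.toMul)) = ψ (cj (j + 1).val m.toMul)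
      rw [ZMod.val_add, ← hmod, ZMod.val_one]
      exact congrArg ψ (Subtype.ext (by simp only [cj, pow_add]; group))
    · have e : ∑ j : ZMod p, ψ (cj j.val y) = l aP := by
        rw [haP, ofMul_prod, map_sum]
        refine Finset.sum_nbij' (fun j => ⟨j.val, j.val_lt⟩) (fun i => ((i : ℕ) : ZMod p))
          (by simp) (by simp) (by simp) ?_ (fun j _ => rfl)
        intro i _
        exact Fin.ext (ZMod.val_natCast_of_lt i.2)
      show ∑ j : ZMod p, ψ (cj j.val y) ≠ 0
      rw [e]; exact hl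
  -- the stabiliser
  let K : Subgroup R :=
    { carrier := {r | ∃ h : r ∈ M, ψ ⟨r, h⟩ = 0}
      one_mem' := ⟨M.one_mem, by simp [ψ, show (⟨1, M.one_mem⟩ : M) = 1 from rfl]⟩
      mul_mem' := by
        rintro a b ⟨ha, ha0⟩ ⟨hb, hb0⟩
        refine ⟨M.mul_mem ha hb, ?_⟩
        rw [show (⟨a * b, M.mul_mem ha hb⟩ : M) = ⟨a, ha⟩ * ⟨b, hb⟩ from rfl, ψmul, ha0, hb0, add_zero]
      inv_mem' := by
        rintro a ⟨ha, ha0⟩
        refine ⟨M.inv_mem ha, ?_⟩
        have := ψmul ⟨a⁻¹, M.inv_mem ha⟩ ⟨a, ha⟩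
        rw [ha0, add_zero] at this
        rw [← this]
        simp [ψ, show (⟨1, M.one_mem⟩ : M) = 1 from rfl] }
  have hKM : K ≤ M := fun r hr => hr.1
  let f0 : Additive M →+ ZMod p :=
    { toFun := fun m => ψ m.toMul, map_zero' := by simp [ψ], map_add' := fun a b => by
        simp only [toMul_add]; exact ψmul _ _ }
  have hf0 : Function.Surjective f0 := by
    intro c
    obtain ⟨m, hm⟩ : (fun _ : ZMod p => c) ∈ Ψ.range := by rw [htop]; trivial
    refine ⟨m, ?_⟩
    have : cj ((0 : ZMod p).val) m.toMul = m.toMul := Subtype.ext (by simp [cj])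
    have h2 := congrFun hm 0
    show ψ m.toMul = c
    rw [← this]; exact h2
  have hKrel : K.relIndex M = p := by
    have h1 : K.subgroupOf M = (AddSubgroup.toSubgroup' f0.ker) := by
      ext m
      constructor
      · rintro ⟨_, h⟩; exact h
      · intro h; exact ⟨m.2, h⟩
    show (K.subgroupOf M).index = p
    rw [h1]
    show f0.ker.index = p
    rw [AddSubgroup.index_ker, AddMonoidHom.range_eq_top.2 hf0, AddSubgroup.card_top, Nat.card_zmod]
  have hKidx : K.index = p ^ 2 := by
    rw [← relIndex_mul_index hKM, hKrel, hM, pow_two]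
  have hle : p ^ (p + 1) ≤ K.normalCore.index := by
    rw [← relIndex_mul_index ((normalCore_le K).trans hKM), hM, pow_succ]
    refine Nat.mul_le_mul_right _ ?_
    have h1 : K.normalCore.subgroupOf M ≤ AddSubgroup.toSubgroup' Ψ.ker := by
      intro m hm
      funext j
      obtain ⟨h, h0⟩ := hm (z ^ j.val)⁻¹
      show ψ (cj j.val m) = 0
      rw [← h0]
      exact congrArg ψ (Subtype.ext (by simp [cj]))
    have h2 : Ψ.ker.index = p ^ p := by
      rw [AddSubgroup.index_ker, htop, AddSubgroup.card_top, Nat.card_fun, Nat.card_zmod]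
    calc p ^ p = (AddSubgroup.toSubgroup' Ψ.ker).index := h2.symm
      _ ≤ (K.normalCore.subgroupOf M).index := index_antitone h1
  -- the permutation representation
  have hcard : Nat.card (R ⧸ K) = p ^ 2 := by rw [← Subgroup.index_eq_card, hKidx]
  let e : R ⧸ K ≃ Fin (p ^ 2) := Finite.equivFinOfCardEq hcard
  let θ : R →* Equiv.Perm (Fin (p ^ 2)) :=
    e.permCongrHom.toMonoidHom.comp (MulAction.toPermHom R (R ⧸ K))
  have hθker : θ.ker = K.normalCore := by
    rw [normalCore_eq_ker]
    ext r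
    simp only [MonoidHom.mem_ker, θ, MonoidHom.comp_apply]
    exact e.permCongrHom.map_eq_one_iff
  have hθp : IsPGroup p θ.range := by
    intro ⟨x, r, hr⟩
    obtain ⟨k, hk⟩ := hR r
    refine ⟨k, Subtype.ext ?_⟩
    simp only [SubgroupClass.coe_pow, ← hr, ← map_pow, hk, map_one, OneMemClass.coe_one]
  obtain ⟨P, hP⟩ := hθp.exists_le_sylow
  have hPc : Nat.card (P : Subgroup (Equiv.Perm (Fin (p ^ 2)))) ≤ Nat.card θ.range := by
    rw [P.card_eq_multiplicity, Nat.card_perm, Nat.card_fin, factorization_factorial_sq,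
      ← index_ker, hθker]
    exact hle
  have heq := eq_of_le_of_card_ge hP hPc
  exact ⟨P, (MonoidHom.codRestrict θ _ fun r => hP ⟨r, rfl⟩), fun ⟨x, hx⟩ => by
    obtain ⟨r, hr⟩ := (heq ▸ hx : x ∈ θ.range)
    exact ⟨r, Subtype.ext hr⟩⟩

end Cfsg.Agent.Lib.YoshidaTransfer
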