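import Mathlib
import Cfsg.Agent.Lib.HallWielandt.Basic
import Cfsg.Agent.Lib.YoshidaTransfer.Wreath
/-!
Yoshida: without a quotient `C_p ≀ C_p`, the normaliser of a Sylow `p`-subgroup controls transfer.
-/

set_option autoImplicit false

namespace Cfsg.Agent.Lib.YoshidaTransfer

open Subgroup MulAction Cfsg.Agent.Lib
open scoped Pointwise commutatorElement

/-- `R` has no quotient isomorphic to a Sylow `p`-subgroup of the symmetric group of degree `p ^ 2`. -/
def NoWreathQuotient (p : ℕ) (R : Type*) [Group R] : Prop :=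
  ∀ (P : Sylow p (Equiv.Perm (Fin (p ^ 2)))) (f : R →* (P : Subgroup (Equiv.Perm (Fin (p ^ 2))))),
    ¬ Function.Surjective f

variable {R : Type*} [Group R] [Finite R] {A : Type*} [CommGroup A] {p : ℕ} [hp : Fact p.Prime]

/-- Transfer from a proper subgroup kills `y` when the `p`-th powers of `y` are killed. -/
theorem transfer_eq_one (hR : IsPGroup p R) (hA : ∀ a : A, a ^ p = 1) (hfree : NoWreathQuotient p R)
    {S : Subgroup R} (hS : S ≠ ⊤) (ψ : S →* A) (y : R)
    (hkill : ∀ (t : R) (m : ℕ) (h : t⁻¹ * y ^ (p * m) * t ∈ S), ψ ⟨_, h⟩ = 1) :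
    MonoidHom.transfer ψ y = 1 := by
  classical
  obtain ⟨M, hM, hSM⟩ := (eq_top_or_exists_le_coatom S).resolve_left hS
  obtain ⟨hMn, hMi⟩ := Nilp.index_coatom_of_isPGroup hR hM
  haveI := hMn
  haveI : Fintype (Quotient (orbitRel (zpowers y) (R ⧸ S))) := Fintype.ofFinite _
  by_cases hy : y ∈ M
  · -- `y` in the maximal subgroup
    obtain ⟨z, -, hzM⟩ : ∃ z ∈ (⊤ : Subgroup R), z ∉ M :=
      SetLike.exists_of_lt (lt_top_iff_ne_top.mpr hM.1)
    rw [HallWielandt.transfer_trans hSM]
    set χ : M →* A := MonoidHom.transfer (ψ.comp (subgroupOfEquivOfLe hSM).toMonoidHom) with hχ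
    have hord : orderOf (z : R ⧸ M) = p := by
      refine orderOf_eq_prime ?_ (fun h => hzM ((QuotientGroup.eq_one_iff z).mp h))
      conv_lhs => rw [← hMi, Subgroup.index_eq_card]
      exact pow_card_eq_one'
    haveI := Fintype.ofFinite (R ⧸ M)
    have hbij : Function.Bijective (fun j : Fin p => ((z ^ (j : ℕ) : R) : R ⧸ M)) := by
      rw [Fintype.bijective_iff_injective_and_card]
      refine ⟨fun i j hij => Fin.ext (pow_injOn_Iio_orderOf (x := (z : R ⧸ M)) ?_ ?_ hij), ?_⟩
      · rw [Set.mem_Iio, hord]; exact i.2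
      · rw [Set.mem_Iio, hord]; exact j.2
      · rw [Fintype.card_fin, ← Nat.card_eq_fintype_card, ← Subgroup.index_eq_card, hMi]
    let e := Equiv.ofBijective _ hbij
    have hfix : ∀ q : R ⧸ M, y • q = q := by
      intro q
      obtain ⟨r, rfl⟩ := QuotientGroup.mk_surjective q
      rw [MulAction.Quotient.smul_coe, smul_eq_mul, QuotientGroup.eq]
      simpa [mul_assoc] using hMn.conj_mem' _ (inv_mem hy) r
    let ch : R → ℕ → M := fun u j => if hu : u ∈ M then ⟨(z ^ j)⁻¹ * u * z ^ j, hMn.conj_mem' u hu _⟩ else 1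
    have hprod : MonoidHom.transfer χ y = ∏ j : Fin p, χ (ch y (j : ℕ)) := by
      rw [TransferOrbit.transfer_eq_prod_section χ (fun q => z ^ ((e.symm q : Fin p) : ℕ))
        (fun q => e.apply_symm_apply q), ← e.prod_comp]
      refine Finset.prod_congr rfl fun j _ => congrArg χ (Subtype.ext ?_)
      simp only [hfix, Equiv.symm_apply_apply, ch, dif_pos hy, mul_assoc]
    rw [hprod]
    by_contra hne
    have hne' : ∏ j : Fin p, χ ⟨(z ^ (j : ℕ))⁻¹ * ((⟨y, hy⟩ : M) : R) * z ^ (j : ℕ),
        hMn.conj_mem' y hy _⟩ ≠ 1 := by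
      refine fun e => hne (Eq.trans (Finset.prod_congr rfl fun j _ => ?_) e)
      simp only [ch, dif_pos hy]
    obtain ⟨P, f, hf⟩ := exists_surjective_of_norm_ne_one hR hMi hA χ ⟨y, hy⟩ hzM hne'
    exact hfree P f hf
  · -- `y` outside the maximal subgroup
    rw [MonoidHom.transfer_eq_prod_quotient_orbitRel_zpowers_quot]
    refine Fintype.prod_eq_one _ fun q => ?_
    set r := Function.minimalPeriod (y • ·) q.out
    have hmem : q.out.out⁻¹ * y ^ r * q.out.out ∈ S := QuotientGroup.out_conj_pow_minimalPeriod_mem S y q.out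
    have hrM : y ^ r ∈ M := by
      have := hMn.conj_mem _ (hSM hmem) q.out.out
      simpa [mul_assoc] using this
    have hord : orderOf (y : R ⧸ M) = p := by
      refine orderOf_eq_prime ?_ (fun h => hy ((QuotientGroup.eq_one_iff y).mp h))
      conv_lhs => rw [← hMi, Subgroup.index_eq_card]
      exact pow_card_eq_one'
    obtain ⟨m, hm⟩ : p ∣ r := by
      rw [← hord]
      refine orderOf_dvd_of_pow_eq_one ?_
      rw [← QuotientGroup.mk_pow]
      exact (QuotientGroup.eq_one_iff _).mpr hrM
    have key := hkill q.out.out m (by rw [← hm]; exact hmem)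
    convert key using 3
    rw [← hm]


variable {G : Type*} [Group G] [Finite G]

/-- An element moving `P` into `N(P)` normalises `P`. -/
theorem mem_normalizer_of_conj_le_normalizer (P : Sylow p G) (a : G)
    (ha : ∀ z ∈ (P : Subgroup G), a⁻¹ * z * a ∈ Subgroup.normalizer ((P : Subgroup G) : Set G)) :
    a ∈ Subgroup.normalizer ((P : Subgroup G) : Set G) := by
  refine HallWielandt.mem_normalizer_of_conj_le P ⟨le_rfl, fun g hg => ?_⟩ a ha
  exact eq_of_le_of_card_ge hg (card_map_of_injective (MulAut.conj g).injective).ge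

theorem pResidual_normalizer_eq {G : Type*} [Group G] [Finite G] (P : Sylow p G)
    (hfree : NoWreathQuotient p (P : Subgroup G)) :
    (Cfsg.pResidual p G).subgroupOf (Subgroup.normalizer ((P : Subgroup G) : Set G)) =
      Cfsg.pResidual p (Subgroup.normalizer ((P : Subgroup G) : Set G)) := by
  classical
  set H := Subgroup.normalizer ((P : Subgroup G) : Set G) with hH
  have hPH : (P : Subgroup G) ≤ H := le_normalizer
  refine Transfer.tate H (Transfer.not_dvd_index_of_sylow_le P hPH) ?_
  set L := Cfsg.pResidual p H with hL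
  have hX : IsPGroup p (H ⧸ L) := Transfer.isPGroup_quotient_pResidual
  let _ : CommGroup ((H ⧸ L) ⧸ frattini (H ⧸ L)) :=
    { (inferInstance : Group ((H ⧸ L) ⧸ frattini (H ⧸ L))) with
      mul_comm := fun a b => by
        induction a using QuotientGroup.induction_on with | _ a =>
        induction b using QuotientGroup.induction_on with | _ b =>
        rw [← QuotientGroup.mk_mul, ← QuotientGroup.mk_mul, QuotientGroup.eq]
        apply Transfer.commutator_le_frattini_of_isPGroup hX
        have : (a * b)⁻¹ * (b * a) = ⁅b⁻¹, a⁻¹⁆ := by rw [commutatorElement_def]; group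
        rw [this]
        exact commutator_mem_commutator (mem_top _) (mem_top _) }
  set φ : H →* (H ⧸ L) ⧸ frattini (H ⧸ L) := (QuotientGroup.mk' _).comp (QuotientGroup.mk' L) with hφ
  have hexp : ∀ a : (H ⧸ L) ⧸ frattini (H ⧸ L), a ^ p = 1 := by
    intro a
    induction a using QuotientGroup.induction_on with | _ a =>
    rw [← QuotientGroup.mk_pow, QuotientGroup.eq_one_iff]
    exact (Nilp.commutator_le_and_pow_mem_frattini hX).2 a
  set V : G →* (H ⧸ L) ⧸ frattini (H ⧸ L) := MonoidHom.transfer φ with hV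
  have main : ∀ (n : ℕ) (y : G), orderOf y = n → ∀ hy : y ∈ (P : Subgroup G), V y = φ ⟨y, hPH hy⟩ := by
    intro n
    induction n using Nat.strong_induction_on with
    | _ n ih =>
    intro y hn hy
    have kill : ∀ (g : G) (m : ℕ) (hg : g⁻¹ * y ^ (p * m) * g ∈ H), φ ⟨_, hg⟩ = 1 := by
      intro g m hg
      by_cases hy1 : y = 1
      · convert map_one φ
        subst hy1; simp
      have hpgrp : IsPGroup p (zpowers (g⁻¹ * y ^ (p * m) * g)) :=
        (P.2.to_le (zpowers_le.mpr (pow_mem hy (p * m)))).map (MulAut.conj g⁻¹).toMonoidHom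
          |>.to_le (zpowers_le.mpr ⟨y ^ (p * m), mem_zpowers _, by simp⟩)
      obtain ⟨T, hT⟩ := (hpgrp.comap_subtype (K := H)).exists_le_sylow
      obtain ⟨h, hh⟩ := Transfer.exists_sylow_map_conj_eq (P.subtype hPH) T
      set c : H := MulAut.conj h ⟨_, hg⟩ with hcdef
      have hcP : (c : G) ∈ (P : Subgroup G) := by
        have h1 : c ∈ ((P.subtype hPH : Sylow p H) : Subgroup H) :=
          hh ▸ mem_map_of_mem _ (hT (show (⟨_, hg⟩ : H) ∈ _ from mem_zpowers _))
        exact h1
      have hce : (c : G) = ((h : G) * g⁻¹) * y ^ (p * m) * ((h : G) * g⁻¹)⁻¹ := by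
        rw [hcdef, MulAut.conj_apply]
        simp [mul_assoc]
      have hlt : orderOf (c : G) < n := by
        have e1 : orderOf (c : G) = orderOf (y ^ (p * m)) := by
          rw [hce, ← MulAut.conj_apply]
          exact orderOf_injective (MulAut.conj ((h : G) * g⁻¹)).toMonoidHom (MulEquiv.injective _) _
        have e2 : orderOf (y ^ (p * m)) ∣ orderOf (y ^ p) := by rw [pow_mul]; exact orderOf_pow_dvd _
        obtain ⟨k, hk⟩ := (IsPGroup.iff_orderOf.mp P.2) ⟨y, hy⟩
        rw [← Subgroup.orderOf_coe] at hk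
        have hk0 : k ≠ 0 := fun h0 => hy1 (orderOf_eq_one_iff.mp (by rw [hk, h0, pow_zero]))
        have hpd : p ∣ orderOf y := hk ▸ dvd_pow_self p hk0
        have e3 : orderOf (y ^ p) = orderOf y / p := orderOf_pow_of_dvd hp.out.ne_zero hpd
        rw [e1, ← hn]
        exact lt_of_le_of_lt (Nat.le_of_dvd (orderOf_pos _) e2)
          (e3 ▸ Nat.div_lt_self (orderOf_pos y) hp.out.one_lt)
      have h1 : V (c : G) = φ c := ih _ hlt (c : G) rfl hcP
      rw [hce, map_mul, map_mul, map_inv, mul_comm (V ((h : G) * g⁻¹)), mul_inv_cancel_right, pow_mul, map_pow,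
        map_pow, hexp, one_pow] at h1
      have h2 : φ c = φ ⟨_, hg⟩ := by
        rw [hcdef, MulAut.conj_apply, map_mul, map_mul, map_inv, mul_comm (φ h), mul_inv_cancel_right]
      rw [← h2]
      exact h1.symm
    set Rr : Subgroup G := (P : Subgroup G) with hR
    have hRP : Rr ≤ (P : Subgroup G) := le_rfl
    have hyR : y ∈ Rr := hy
    haveI : Fintype (orbitRel.Quotient Rr (G ⧸ H)) := Fintype.ofFinite _
    rw [hV, TransferOrbit.transfer_eq_prod_orbits φ Rr ⟨y, hyR⟩]
    have hfix1 : ∀ s : Rr, s • ((1 : G) : G ⧸ H) = ((1 : G) : G ⧸ H) := by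
      intro s
      show (s : G) • ((1 : G) : G ⧸ H) = _
      rw [MulAction.Quotient.smul_coe, smul_eq_mul, QuotientGroup.eq, mul_one, mul_one]
      exact inv_mem (hPH (hRP s.2))
    set ω₀ : orbitRel.Quotient Rr (G ⧸ H) := Quotient.mk'' ((1 : G) : G ⧸ H) with hω₀
    have hout : ω₀.out = ((1 : G) : G ⧸ H) := by
      obtain ⟨s, hs⟩ := orbitRel_apply.1 (Quotient.mk_out (s := orbitRel Rr (G ⧸ H)) ((1 : G) : G ⧸ H))
      exact hs.symm.trans (hfix1 s)
    rw [Fintype.prod_eq_single ω₀]
    · have htop : stabilizer Rr ω₀.out = ⊤ := eq_top_iff.mpr fun s _ => by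
        rw [mem_stabilizer_iff, hout]; exact hfix1 s
      rw [TransferOrbit.transfer_of_eq_top _ htop]
      have ha : ω₀.out.out ∈ H := by
        rw [← inv_mem_iff]
        have h1 : ((ω₀.out.out : G) : G ⧸ H) = ((1 : G) : G ⧸ H) := by rw [QuotientGroup.out_eq', hout]
        simpa using QuotientGroup.eq.1 h1
      rw [TransferOrbit.orbitHom_apply φ Rr ω₀.out _ (mul_mem (mul_mem (inv_mem ha) (hPH hy)) ha)]
      calc _ = φ ((⟨_, ha⟩ : H)⁻¹ * ⟨y, hPH hy⟩ * ⟨_, ha⟩) := congrArg φ (Subtype.ext rfl)
        _ = φ ⟨y, hPH hy⟩ := by rw [map_mul, map_mul, map_inv, mul_comm (φ ⟨_, ha⟩)⁻¹, inv_mul_cancel_right]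
    · intro ω hω
      have hS : stabilizer Rr ω.out ≠ ⊤ := by
        intro ht
        apply hω
        have hmem : ω.out.out ∈ H := by
          refine mem_normalizer_of_conj_le_normalizer P _ fun z hz => ?_
          have h1 : (⟨z, hz⟩ : Rr) • ω.out = ω.out :=
            mem_stabilizer_iff.mp (ht ▸ mem_top _)
          change (z : G) • ω.out = ω.out at h1
          conv_lhs at h1 => rw [← QuotientGroup.out_eq' ω.out]
          conv_rhs at h1 => rw [← QuotientGroup.out_eq' ω.out]
          rw [MulAction.Quotient.smul_coe, smul_eq_mul, QuotientGroup.eq, mul_inv_rev] at h1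
          have h2 := inv_mem h1
          have h3 : (ω.out.out)⁻¹ * z * ω.out.out ∈ H := by simpa [mul_assoc] using h2
          exact h3
        have h2 : ω.out = ((1 : G) : G ⧸ H) := by
          rw [← QuotientGroup.out_eq' ω.out, QuotientGroup.eq, mul_one]
          exact inv_mem hmem
        rw [hω₀, ← h2]
        exact (Quotient.out_eq' ω).symm
      refine transfer_eq_one (P.2.to_le hRP) hexp hfree hS _ ⟨y, hyR⟩ ?_
      · intro t m ht
        have hg : ((t : G) * ω.out.out)⁻¹ * y ^ (p * m) * ((t : G) * ω.out.out) ∈ H := by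
          have h := ((⟨_, ht⟩ : stabilizer Rr ω.out)).2
          rw [mem_stabilizer_iff] at h
          change (((t⁻¹ * ⟨y, hyR⟩ ^ (p * m) * t : Rr) : G)) • ω.out = ω.out at h
          conv_lhs at h => rw [← QuotientGroup.out_eq' ω.out]
          conv_rhs at h => rw [← QuotientGroup.out_eq' ω.out]
          rw [MulAction.Quotient.smul_coe, smul_eq_mul, QuotientGroup.eq] at h
          have h2 := inv_mem h
          simpa [mul_assoc] using h2
        refine Eq.trans ?_ (kill _ m hg)
        show φ _ = φ _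
        refine congrArg φ (Subtype.ext ?_)
        simp [mul_assoc]
  intro x hx
  rw [mem_comap]
  have htop := Transfer.pResidual_sup_sylow (P.subtype hPH)
  obtain ⟨l, hl, y, hy, rfl⟩ :
      x ∈ ((L : Set H) * ((P.subtype hPH : Subgroup H) : Set H)) := by
    rw [← normal_mul, htop]; trivial
  have hl' : (l : G) ∈ Cfsg.pResidual p G := Transfer.pResidual_le_subgroupOf H hl
  have hy' : (y : G) ∈ Cfsg.pResidual p G :=
    (mul_mem_cancel_left hl').mp (by simpa using mem_subgroupOf.mp hx)
  have hyP : (y : G) ∈ (P : Subgroup G) := hy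
  have h1 : V (y : G) = 1 := Transfer.pResidual_le_ker (hX.to_quotient _) V hy'
  rw [main _ _ rfl hyP] at h1
  rw [map_mul, show QuotientGroup.mk' L l = 1 from (QuotientGroup.eq_one_iff l).mpr hl, one_mul]
  exact (QuotientGroup.eq_one_iff _).mp h1


theorem sylow_inf_commutator_eq (P : Sylow p G) (hfree : NoWreathQuotient p (P : Subgroup G)) :
    (P : Subgroup G) ⊓ _root_.commutator G = (P : Subgroup G) ⊓
      ⁅Subgroup.normalizer ((P : Subgroup G) : Set G), Subgroup.normalizer ((P : Subgroup G) : Set G)⁆ := by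
  have hres := pResidual_normalizer_eq P hfree
  set N := Subgroup.normalizer ((P : Subgroup G) : Set G) with hN
  refine le_antisymm ?_ (inf_le_inf_left _ (commutator_mono le_top le_top))
  rintro x ⟨hxP, hxc⟩
  refine ⟨hxP, ?_⟩
  set L := Cfsg.pResidual p G with hL
  haveI : L.Normal := by
    have := Transfer.pResidual_characteristic (G := G) (p := p)
    infer_instance
  have htop : N.map (QuotientGroup.mk' L) = ⊤ := by
    rw [← map_top_of_surjective _ (QuotientGroup.mk'_surjective L), ← Transfer.pResidual_sup_sylow P,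
      Subgroup.map_sup, (Subgroup.map_eq_bot_iff L).2 (QuotientGroup.ker_mk' L).ge, bot_sup_eq]
    refine le_antisymm ?_ (map_mono le_normalizer)
    rintro _ ⟨n, hn, rfl⟩
    obtain ⟨l, hl, y, hy, rfl⟩ := mem_sup_of_normal_left.1
      (Transfer.pResidual_sup_sylow P ▸ mem_top n : n ∈ L ⊔ (P : Subgroup G))
    exact ⟨y, hy, by rw [map_mul, show QuotientGroup.mk' L l = 1 from (QuotientGroup.eq_one_iff l).2 hl, one_mul]⟩
  have hxq : QuotientGroup.mk' L x ∈ ⁅N, N⁆.map (QuotientGroup.mk' L) := by
    rw [map_commutator, htop, ← map_top_of_surjective _ (QuotientGroup.mk'_surjective L),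
      ← map_commutator]
    exact mem_map_of_mem _ hxc
  obtain ⟨n, hn, hnx⟩ := hxq
  have hnN : n ∈ N := commutator_le_self N hn
  have ho : (⟨n⁻¹ * x, mul_mem (inv_mem hnN) (le_normalizer hxP)⟩ : N) ∈ Cfsg.pResidual p N := by
    rw [← hres]
    exact mem_subgroupOf.2 (QuotientGroup.eq.1 hnx)
  -- the image in the abelianisation has order prime to `p` and a power of `p`
  set xN : N := ⟨x, le_normalizer hxP⟩ with hxN
  set nN : N := ⟨n, hnN⟩ with hnN'
  have hcom : nN ∈ _root_.commutator N := by
    have : n ∈ (_root_.commutator N).map N.subtype := by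
      rw [_root_.commutator_def, map_commutator, ← MonoidHom.range_eq_map, range_subtype]
      exact hn
    obtain ⟨u, hu, hue⟩ := this
    rwa [show u = nN from Subtype.ext hue] at hu
  suffices h : Abelianization.of xN = 1 by
    have h' : xN ∈ _root_.commutator N := (QuotientGroup.eq_one_iff xN).1 h
    have := mem_map_of_mem N.subtype h'
    rw [_root_.commutator_def, map_commutator, ← MonoidHom.range_eq_map, range_subtype] at this
    exact this
  have e : Abelianization.of xN = Abelianization.of (nN⁻¹ * xN) := by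
    rw [map_mul, map_inv, show Abelianization.of nN = 1 from (QuotientGroup.eq_one_iff nN).2 hcom,
      inv_one, one_mul]
  have hcop : (orderOf (Abelianization.of xN)).Coprime p := by
    rw [e]
    have ho' : nN⁻¹ * xN ∈ Cfsg.pResidual p N := ho
    clear e
    generalize nN⁻¹ * xN = u at ho' ⊢
    unfold Cfsg.pResidual at ho'
    induction ho' using Subgroup.closure_induction with
    | mem v hv => exact Nat.Coprime.coprime_dvd_left (orderOf_map_dvd _ v) hv
    | one => simp
    | mul u v _ _ hu hv =>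
      rw [map_mul]
      exact Nat.Coprime.coprime_dvd_left (Commute.all _ _).orderOf_mul_dvd_mul_orderOf
        (Nat.Coprime.mul_left hu hv)
    | inv u _ hu => rwa [map_inv, orderOf_inv]
  obtain ⟨k, hk⟩ := P.2 ⟨x, hxP⟩
  have h1 : Abelianization.of xN ^ p ^ k = 1 := by
    rw [← map_pow, show xN ^ p ^ k = 1 from Subtype.ext
      (by rw [hxN, SubgroupClass.coe_pow]; exact congrArg Subtype.val hk), map_one]
  exact orderOf_eq_one_iff.1 (Nat.eq_one_of_dvd_coprimes (hcop.pow_right k) dvd_rfl
    (orderOf_dvd_of_pow_eq_one h1))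

end Cfsg.Agent.Lib.YoshidaTransfer
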